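import Cfsg.Agent.Lib.OsimaConverse.Main
import Cfsg.Agent.Lib.Blocks.DefectCard
import Cfsg.Agent.Lib.Blocks.DefectClass
import Cfsg.Agent.Lib.Blocks.Reynolds
import Cfsg.Agent.Lib.Clifford.Gallagher
import Cfsg.Agent.Lib.PSolvable.HallHigman
import Mathlib

/-!
# Heights in p-solvable groups are bounded by the index of the centre of a defect group
-/

set_option autoImplicit false
set_option linter.unusedSectionVars false

namespace Cfsg.Agent.Lib.OsimaConverse

open Cfsg
open Cfsg.Agent.Lib
open Cfsg.Agent.Lib.Clifford (conjFun resFun resTo)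
open scoped ComplexConjugate Classical

universe u

/-- Isomorphic groups have centres of the same index. -/
theorem index_center_congr {X Y : Type*} [Group X] [Finite X] [Group Y] [Finite Y] (e : X ≃* Y) :
    (Subgroup.center X).index = (Subgroup.center Y).index := by
  have h1 : Nat.card (Subgroup.center X) = Nat.card (Subgroup.center Y) :=
    Nat.card_congr (Subgroup.centerCongr e).toEquiv
  have h2 : Nat.card X = Nat.card Y := Nat.card_congr e.toEquiv
  rw [← (Subgroup.center X).card_mul_index, ← (Subgroup.center Y).card_mul_index, h1] at h2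
  exact Nat.eq_of_mul_eq_mul_left Nat.card_pos h2

/-- A block over an invariant character of the p'-core contains every character over it. -/
theorem mem_of_over_invariant {G : Type u} [Group G] [Fintype G] {p : ℕ} [Fact p.Prime]
    {M : Ideal AlgInt} [M.IsPrime] (hM : IsPModular p M) (hs : IsPSolvable p G)
    (N : Subgroup G) [N.Normal] [Fintype N] (hN : ¬ p ∣ Nat.card N)
    (hN0 : pPrimeCore p (G ⧸ N) = ⊥) (θ : IrrCharacter N)
    (hθ : ∀ g : G, conjFun g (θ : N → ℂ) = (θ : N → ℂ)) {B : Set (IrrCharacter G)}
    (hB : IsPBlock M B) {χ : IrrCharacter G} (hχ : χ ∈ B)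
    (hχθ : classInner (resFun N (χ : G → ℂ)) (θ : N → ℂ) ≠ 0) (ψ : IrrCharacter G)
    (hψ : classInner (resFun N (ψ : G → ℂ)) (θ : N → ℂ) ≠ 0) : ψ ∈ B := by
  refine all_of_invariant hs N hN hN0 θ hθ B (fun φ hφ =>
    Blocks.Covering.constituent_of_sameBlock hM hN (Blocks.sameBlock_of_mem hB hχ hφ) hχθ)
    (fun x hx => ?_) ⟨χ, hχ⟩ ψ hψ
  have h := Blocks.blockCoeff_eq_zero_of_pSingular hM hB
    (show p ∣ orderOf x⁻¹ by rwa [orderOf_inv])
  rw [Blocks.blockCoeff_eq_sum] at h
  have h1 := (mul_eq_zero.1 h).resolve_left (inv_ne_zero Chars.natCard_ne_zero)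
  refine Eq.trans (Finset.sum_congr rfl fun φ _ => ?_) h1
  rw [← Chars.irr_inv, inv_inv]

theorem factorization_charDegree_one {H : Type u} [Group H] [Finite H] {p : ℕ}
    (hH : ¬ p ∣ Nat.card H) (θ : IrrCharacter H) :
    (charDegree (θ : H → ℂ)).factorization p = 0 := by
  obtain ⟨d, -, hd, hdvd⟩ := Chars.irr_degree_dvd_card θ
  have e : charDegree (θ : H → ℂ) = d := by
    exact_mod_cast (Blocks.exists_degree_eq θ).1.symm.trans hd
  exact Nat.factorization_eq_zero_of_not_dvd fun h => hH (h.trans (e ▸ hdvd))

/-- The invariant case. -/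
theorem height_le_of_invariant {G : Type u} [Group G] [Fintype G] {p : ℕ} [Fact p.Prime]
    {M : Ideal AlgInt} [M.IsPrime] (hM : IsPModular p M) (hs : IsPSolvable p G)
    (N : Subgroup G) [N.Normal] [Fintype N] (hN : ¬ p ∣ Nat.card N)
    (hN0 : pPrimeCore p (G ⧸ N) = ⊥) (θ : IrrCharacter N)
    (hθ : ∀ g : G, conjFun g (θ : N → ℂ) = (θ : N → ℂ)) {B : Set (IrrCharacter G)}
    (hB : IsPBlock M B) {χ : IrrCharacter G} (hχ : χ ∈ B)
    (hχθ : classInner (resFun N (χ : G → ℂ)) (θ : N → ℂ) ≠ 0) {P : Subgroup G}
    (hP : IsDefectGroup p M B P) :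
    blockHeight p B (χ : G → ℂ) ≤ (Subgroup.center P).index.factorization p := by
  have hpp : p.Prime := Fact.out
  let H := G ⧸ N
  let π := QuotientGroup.mk' N
  haveI : Fintype H := Fintype.ofFinite _
  -- Sylow subgroups of the quotient
  let S : Sylow p H := Classical.choice inferInstance
  let R : Subgroup G := (S : Subgroup H).comap π
  haveI : Fintype R := Fintype.ofFinite _
  have hNR : N ≤ R := fun n hn => by
    show π n ∈ (S : Subgroup H)
    rw [show π n = 1 from (QuotientGroup.eq_one_iff n).2 hn]; exact one_mem _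
  have hGfac : (Nat.card G).factorization p = (Nat.card H).factorization p := by
    rw [← N.card_mul_index, Nat.factorization_mul Nat.card_pos.ne' N.index_ne_zero_of_finite,
      Finsupp.add_apply, Nat.factorization_eq_zero_of_not_dvd hN, zero_add]
    rfl
  have hidx : ∃ a, N.relIndex R = p ^ a := by
    refine ⟨(Nat.card H).factorization p, ?_⟩
    have h1 := PSolvable.card_mul_relIndex hNR
    rw [PSolvable.card_comap_mk' N, S.card_eq_multiplicity] at h1
    exact Nat.eq_of_mul_eq_mul_left Nat.card_pos h1
  have hRp : ¬ p ∣ R.index := by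
    rw [Subgroup.index_comap_of_surjective _ (QuotientGroup.mk'_surjective N)]
    exact S.not_dvd_index
  obtain ⟨θR, hθR, -⟩ := InvariantCore.exists_canonical_extension N R hNR hN hidx θ
    (fun g n => congrFun (hθ g) n)
  -- a character of degree prime to p in the block
  obtain ⟨φ, hφB, hφdeg⟩ : ∃ φ ∈ B, (charDegree (φ : G → ℂ)).factorization p = 0 := by
    obtain ⟨m, hm⟩ := Chars.isCharacter_exists_nat_decomp
      (Chars.isCharacter_indFun R (Chars.irr_isCharacter θR))
    have hθ1 : (θR : R → ℂ) 1 = (charDegree (θ : N → ℂ) : ℂ) := by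
      rw [← (Blocks.exists_degree_eq θ).1]
      rw [← hθR 1, map_one]
    have hdeg : ∑ φ, m φ * charDegree (φ : G → ℂ) = R.index * charDegree (θ : N → ℂ) := by
      have h1 := congrFun hm 1
      rw [Chars.indFun_one_eq, hθ1] at h1
      simp only [Finset.sum_apply, Pi.smul_apply, smul_eq_mul,
        fun φ : IrrCharacter G => (Blocks.exists_degree_eq φ).1] at h1
      exact_mod_cast h1.symm
    obtain ⟨φ, -, hφ⟩ : ∃ φ ∈ (Finset.univ : Finset (IrrCharacter G)),
        ¬ p ∣ m φ * charDegree (φ : G → ℂ) := by
      by_contra! hall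
      have h2 : p ∣ R.index * charDegree (θ : N → ℂ) := hdeg ▸ Finset.dvd_sum hall
      rcases hpp.dvd_mul.1 h2 with h | h
      · exact hRp h
      · have h0 := factorization_charDegree_one hN θ
        have := (hpp.factorization_pos_of_dvd (Blocks.exists_degree_eq θ).2.1 h)
        omega
    have hmφ : m φ ≠ 0 := fun h => hφ (by rw [h, zero_mul]; exact dvd_zero p)
    refine ⟨φ, mem_of_over_invariant hM hs N hN hN0 θ hθ hB hχ hχθ φ ?_,
      Nat.factorization_eq_zero_of_not_dvd fun h => hφ (h.mul_left _)⟩
    have hcon : classInner (resFun R (φ : G → ℂ)) (θR : R → ℂ) = m φ := by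
      rw [← Chars.conj_classInner]
      have h2 : classInner (indFun R (θR : R → ℂ)) (φ : G → ℂ) = m φ := by
        rw [hm, Chars.classInner_sum_smul_irr]
      rw [Chars.classInner_indFun_left R _ _ (Chars.irr_isClassFunction φ)] at h2
      exact (congrArg conj h2).trans (Complex.conj_natCast _)
    -- restricting further
    obtain ⟨k, hk⟩ := Chars.isCharacter_exists_nat_decomp
      (Chars.isCharacter_restrict R (Chars.irr_isCharacter φ))
    have hkθ : k θR = m φ := by
      have h3 : classInner (resFun R (φ : G → ℂ)) (θR : R → ℂ) = k θR := by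
        show classInner (fun r : R => (φ : G → ℂ) r) _ = _
        rw [hk, Chars.classInner_sum_smul_irr]
      exact_mod_cast h3.symm.trans hcon
    choose l hl using fun ζ : IrrCharacter R => Chars.isCharacter_classInner_nat
      (Clifford.isCharacter_resTo hNR (Chars.irr_isCharacter ζ)) (Chars.irr_isCharacter θ)
    have hdec : resFun N (φ : G → ℂ) = ∑ ζ : IrrCharacter R, (k ζ : ℂ) • resTo hNR (ζ : R → ℂ) := by
      funext n
      have := congrFun hk ⟨(n : G), hNR n.2⟩
      simpa [resFun, resTo] using this
    rw [hdec, Chars.classInner_sum_left]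
    simp only [Chars.classInner_smul_left, hl]
    rw [← Finset.sum_congr rfl (fun ζ _ => Nat.cast_mul (k ζ) (l ζ)), ← Nat.cast_sum,
      Nat.cast_ne_zero]
    intro h0
    rcases Nat.mul_eq_zero.1 (Finset.sum_eq_zero_iff.1 h0 θR (Finset.mem_univ _)) with h | h
    · exact hmφ (hkθ ▸ h)
    · have h4 : classInner (resTo hNR (θR : R → ℂ)) (θ : N → ℂ) = 1 := by
        rw [show resTo hNR (θR : R → ℂ) = (θ : N → ℂ) from funext fun n => hθR n,
          Chars.classInner_irr_self]
      rw [hl, h] at h4
      simp at h4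
  have hdefect : blockDefect p B = (Nat.card G).factorization p := by
    have h1 := Blocks.factorization_degree_add_blockDefect hM hB hφB
    have h2 := Blocks.blockDefect_le (p := p) B
    omega
  have hPcard : Nat.card P = p ^ (Nat.card H).factorization p := by
    rw [Blocks.card_defectGroup hM hB hP, hdefect, hGfac]
  have hPp : IsPGroup p P := Blocks.isPGroup_of_isDefectGroup hP
  -- its image is a Sylow subgroup containing the p-core
  let f : P →* H := π.comp P.subtype
  have hf : Function.Injective f := by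
    rw [injective_iff_map_eq_one]
    intro x hx
    have hxN : (x : G) ∈ N := (QuotientGroup.eq_one_iff (x : G)).1 hx
    obtain ⟨j, hj⟩ := IsPGroup.iff_orderOf.1 hPp x
    have h1 : orderOf (x : G) ∣ Nat.card N := Subgroup.orderOf_dvd_natCard N hxN
    rw [Subgroup.orderOf_coe, hj] at h1
    rcases Nat.eq_zero_or_pos j with rfl | hjp
    · exact orderOf_eq_one_iff.1 (by simpa using hj)
    · exact absurd ((dvd_pow_self p hjp.ne').trans h1) hN
  have hrange : Nat.card f.range = p ^ (Nat.card H).factorization p := by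
    rw [← hPcard]
    exact (Nat.card_congr (MonoidHom.ofInjective hf).toEquiv).symm
  let Q : Subgroup H := pCore p H
  have hQc : Q.Characteristic := PSolvable.pCore_characteristic
  haveI hQn : Q.Normal := inferInstance
  have hQle : Q ≤ f.range := PSolvable.pCore_le_sylow (Sylow.ofCard f.range hrange)
  let Z : Subgroup H := (Subgroup.center Q).map Q.subtype
  haveI hZn : Z.Normal := by
    refine Subgroup.normalizer_eq_top_iff.1 (top_le_iff.1 ?_)
    rw [← Subgroup.normalizer_eq_top_iff.2 hQn]
    exact Coprime.normalizer_le_normalizer_map_of_characteristic (Subgroup.center Q)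
  have hZP : (Subgroup.center P).map f ≤ Z := by
    rintro _ ⟨z, hz, rfl⟩
    have hcent : f z ∈ Subgroup.centralizer (Q : Set H) := by
      rw [Subgroup.mem_centralizer_iff]
      intro q hq
      obtain ⟨y, rfl⟩ := hQle hq
      rw [← map_mul, ← map_mul, Subgroup.mem_center_iff.1 hz y]
    have hzQ : f z ∈ Q :=
      PSolvable.centralizer_pCore_le_of_isPSolvable (PSolvable.isPSolvable_quotient hs N) hN0 hcent
    refine ⟨⟨f z, hzQ⟩, Subgroup.mem_center_iff.2 fun q => Subtype.ext ?_, rfl⟩
    exact Subgroup.mem_centralizer_iff.1 hcent q q.2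
  let A : Subgroup G := Z.comap π
  haveI : A.Normal := hZn.comap π
  haveI : Fintype A := Fintype.ofFinite _
  have hNA : N ≤ A := fun n hn => by
    show π n ∈ Z
    rw [show π n = 1 from (QuotientGroup.eq_one_iff n).2 hn]; exact one_mem _
  have hZp : IsPGroup p Z := (PSolvable.pCore_isPGroup (p := p) (G := H)).to_le (Subgroup.map_subtype_le _)
  obtain ⟨z, hz⟩ := hZp.exists_card_eq
  have hA1 : N.relIndex A = p ^ z := by
    have h1 := PSolvable.card_mul_relIndex hNA
    rw [PSolvable.card_comap_mk' N, hz] at h1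
    exact Nat.eq_of_mul_eq_mul_left Nat.card_pos h1
  obtain ⟨θA, hθA, -⟩ := InvariantCore.exists_canonical_extension N A hNA hN ⟨z, hA1⟩ θ
    (fun g n => congrFun (hθ g) n)
  -- constituents on A have degree θ 1
  obtain ⟨η, hη⟩ := Blocks.Covering.exists_constituent (N := A) χ
  let K : Subgroup A := N.subgroupOf A
  haveI : K.Normal := Subgroup.normal_subgroupOf
  haveI : Fintype K := Fintype.ofFinite _
  let e : K ≃* N := Subgroup.subgroupOfEquivOfLe hNA
  have hres : resFun K (θA : A → ℂ) = fun k => (θ : N → ℂ) (e k) := funext fun k => hθA (e k)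
  have hirr : IsIrrCharacter K (resFun K (θA : A → ℂ)) := by
    rw [hres]; exact Chars.isIrrCharacter_comp_mulEquiv e θ.2
  have hover : classInner (resFun K (η : A → ℂ)) (resFun K (θA : A → ℂ)) ≠ 0 := by
    obtain ⟨φ', hφ'⟩ := Blocks.Covering.exists_constituent (N := K) η
    -- Clifford below χ
    let φN : IrrCharacter N :=
      ⟨fun n => (φ' : K → ℂ) (e.symm n), Chars.isIrrCharacter_comp_mulEquiv e.symm φ'.2⟩
    have heq : ∀ ζ : IrrCharacter A, classInner (resFun K (ζ : A → ℂ)) (φ' : K → ℂ) =
        classInner (resTo hNA (ζ : A → ℂ)) (φN : N → ℂ) := by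
      intro ζ
      simp only [classInner]
      rw [Nat.card_congr e.toEquiv]
      congr 1
      refine Fintype.sum_equiv e.toEquiv _ _ fun k => ?_
      simp only [φN, resFun, resTo, MulEquiv.coe_toEquiv, MulEquiv.symm_apply_apply]
      rfl
    have h1 : classInner (resFun N (χ : G → ℂ)) (φN : N → ℂ) ≠ 0 := by
      obtain ⟨k, hk⟩ := Chars.isCharacter_exists_nat_decomp
        (Chars.isCharacter_restrict A (Chars.irr_isCharacter χ))
      have hkη : classInner (resFun A (χ : G → ℂ)) (η : A → ℂ) = k η := by
        show classInner (fun a : A => (χ : G → ℂ) a) _ = _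
        rw [hk, Chars.classInner_sum_smul_irr]
      choose l hl using fun ζ : IrrCharacter A => Chars.isCharacter_classInner_nat
        (Clifford.isCharacter_resTo hNA (Chars.irr_isCharacter ζ)) (Chars.irr_isCharacter φN)
      have hdec : resFun N (χ : G → ℂ) = ∑ ζ : IrrCharacter A, (k ζ : ℂ) • resTo hNA (ζ : A → ℂ) := by
        funext n
        have := congrFun hk ⟨(n : G), hNA n.2⟩
        simpa [resFun, resTo] using this
      rw [hdec, Chars.classInner_sum_left]
      simp only [Chars.classInner_smul_left, hl]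
      rw [← Finset.sum_congr rfl (fun ζ _ => Nat.cast_mul (k ζ) (l ζ)), ← Nat.cast_sum,
        Nat.cast_ne_zero]
      intro h0
      rcases Nat.mul_eq_zero.1 (Finset.sum_eq_zero_iff.1 h0 η (Finset.mem_univ _)) with h | h
      · exact hη (by rw [hkη, h, Nat.cast_zero])
      · exact hφ' (by rw [heq, hl, h, Nat.cast_zero])
    obtain ⟨g, hg⟩ := Clifford.exists_conjFun_eq_of_constituent χ.2 θ.2 φN.2 hχθ h1
    rw [hθ g] at hg
    have h2 : resFun K (θA : A → ℂ) = (φ' : K → ℂ) := by
      rw [hres]
      funext k
      rw [hg]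
      exact congrArg (φ' : K → ℂ) (e.symm_apply_apply k)
    rw [h2]
    exact hφ'
  obtain ⟨β, hβ⟩ := ((Clifford.gallagher θA.2 hirr).2.2 (η : A → ℂ) η.2).1 hover
  have hηdeg : charDegree (η : A → ℂ) = charDegree (θ : N → ℂ) := by
    haveI : IsMulCommutative (A ⧸ K) := by
      refine ⟨⟨fun x y => ?_⟩⟩
      obtain ⟨x, rfl⟩ := QuotientGroup.mk_surjective x
      obtain ⟨y, rfl⟩ := QuotientGroup.mk_surjective y
      rw [← QuotientGroup.mk_mul, ← QuotientGroup.mk_mul, QuotientGroup.eq]
      show (((x * y)⁻¹ * (y * x) : A) : G) ∈ N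
      have hc : π (x : G) * π (y : G) = π (y : G) * π (x : G) := by
        obtain ⟨a, ha, hax⟩ := (x.2 : π (x : G) ∈ Z)
        obtain ⟨b, -, hby⟩ := (y.2 : π (y : G) ∈ Z)
        rw [← hax, ← hby]
        exact (congrArg Subtype.val (Subgroup.mem_center_iff.1 ha b)).symm
      rw [← map_mul, ← map_mul] at hc
      push_cast
      exact QuotientGroup.eq.1 hc
    have h1 := congrFun hβ 1
    simp only [Pi.mul_apply, Chars.inflate, QuotientGroup.mk_one, Chars.irr_apply_one_of_comm,
      mul_one] at h1
    rw [show (θA : A → ℂ) 1 = (θ : N → ℂ) 1 by rw [← hθA 1, map_one],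
      (Blocks.exists_degree_eq θ).1, (Blocks.exists_degree_eq η).1] at h1
    exact_mod_cast h1
  -- the bound
  obtain ⟨x, hx, hdeg⟩ := Blocks.Reynolds.exists_dvd_index_degree A χ η hη
  have hle1 : (charDegree (χ : G → ℂ)).factorization p ≤ A.index.factorization p := by
    rw [hdeg, hηdeg, Nat.factorization_mul (Blocks.exists_degree_eq θ).2.1
      (ne_zero_of_dvd_ne_zero A.index_ne_zero_of_finite hx), Finsupp.add_apply,
      factorization_charDegree_one hN θ, zero_add]
    exact (Nat.factorization_le_iff_dvd (ne_zero_of_dvd_ne_zero A.index_ne_zero_of_finite hx)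
      A.index_ne_zero_of_finite).2 hx p
  have hle2 : A.index.factorization p ≤ (Subgroup.center P).index.factorization p := by
    have h1 : A.index.factorization p + z = (Nat.card H).factorization p := by
      rw [Subgroup.index_comap_of_surjective _ (QuotientGroup.mk'_surjective N),
        ← Z.card_mul_index, hz, Nat.factorization_mul (pow_ne_zero _ hpp.ne_zero)
          Z.index_ne_zero_of_finite, Finsupp.add_apply, hpp.factorization_pow,
        Finsupp.single_eq_same, add_comm]
    obtain ⟨i, hi, hcz⟩ := (Nat.dvd_prime_pow hpp).1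
      (hPcard ▸ Subgroup.card_subgroup_dvd_card (Subgroup.center P))
    have h2 : i ≤ z := by
      have h3 : Nat.card ((Subgroup.center P).map f) ≤ Nat.card Z := Subgroup.card_le_of_le hZP
      rw [Subgroup.card_map_of_injective hf, hcz, hz] at h3
      exact (Nat.pow_le_pow_iff_right hpp.one_lt).1 h3
    have h4 : (Subgroup.center P).index.factorization p + i = (Nat.card H).factorization p := by
      have h5 := congrArg (fun n : ℕ => n.factorization p) (Subgroup.center P).card_mul_index
      simp only [hPcard, hcz, Nat.factorization_mul (pow_ne_zero _ hpp.ne_zero)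
        (Subgroup.center P).index_ne_zero_of_finite, Finsupp.add_apply, hpp.factorization_pow,
        Finsupp.single_eq_same] at h5
      omega
    omega
  exact (Nat.sub_le _ _).trans (hle1.trans hle2)

theorem height_le_aux (n : ℕ) : ∀ {G : Type u} [Group G] [Fintype G] {p : ℕ} [Fact p.Prime]
    {M : Ideal AlgInt} [M.IsPrime], IsPModular p M → Nat.card G ≤ n → IsPSolvable p G →
    ∀ B : Set (IrrCharacter G), IsPBlock M B → ∀ P : Subgroup G, IsDefectGroup p M B P →
    ∀ χ ∈ B, blockHeight p B (χ : G → ℂ) ≤ (Subgroup.center P).index.factorization p := by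
  induction n with
  | zero =>
    intro G _ _ p _ M _ _ hn
    have := Nat.card_pos (α := G)
    omega
  | succ n ih =>
    intro G _ _ p _ M _ hM hn hs B hB P hP χ hχ
    let N : Subgroup G := pPrimeCore p G
    have := PSolvable.pPrimeCore_characteristic (p := p) (G := G)
    haveI hNn : N.Normal := inferInstanceAs (pPrimeCore p G).Normal
    haveI : Fintype N := Fintype.ofFinite _
    have hN : ¬ p ∣ Nat.card N := PSolvable.pPrimeCore_not_dvd
    obtain ⟨θ, hθ⟩ := Blocks.Covering.exists_constituent (N := N) χ
    let T : Subgroup G :=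
      { carrier := {g | conjFun g (θ : N → ℂ) = (θ : N → ℂ)}
        one_mem' := Clifford.conjFun_one _
        mul_mem' := fun {a b} ha hb => by
          show conjFun (a * b) (θ : N → ℂ) = _
          rw [Clifford.conjFun_mul, show conjFun a (θ : N → ℂ) = _ from ha]
          exact hb
        inv_mem' := fun {a} ha => by
          show conjFun a⁻¹ (θ : N → ℂ) = _
          conv_lhs => rw [← show conjFun a (θ : N → ℂ) = (θ : N → ℂ) from ha]
          rw [← Clifford.conjFun_mul, mul_inv_cancel, Clifford.conjFun_one] }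
    by_cases hT : T = ⊤
    · have hinv : ∀ g : G, conjFun g (θ : N → ℂ) = (θ : N → ℂ) := fun g => by
        show g ∈ T
        rw [hT]; exact Subgroup.mem_top g
      exact height_le_of_invariant hM hs N hN PSolvable.pPrimeCore_quotient_eq_bot θ hinv hB hχ hθ hP
    · haveI : Fintype T := Fintype.ofFinite _
      have hNT : N ≤ T := fun x hx => funext fun n => by
        show (θ : N → ℂ) _ = _
        exact Chars.irr_isClassFunction θ n ⟨x, hx⟩
      have hsingle : ∀ θ' ∈ Cfsg.blockOf M (θ : N → ℂ), θ' = θ := fun θ' h =>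
        Blocks.Covering.eq_of_sameBlock_of_not_dvd hM hN h
      have hb : IsPBlock M (Cfsg.blockOf M (θ : N → ℂ)) := Blocks.isPBlock_blockOf θ
      have hstab : BlockUnion.Stab.IsStab T (Cfsg.blockOf M (θ : N → ℂ)) := by
        intro g
        constructor
        · intro hg θ₁ hθ₁ θ₁' h1
          obtain rfl := hsingle θ₁ hθ₁
          rw [show θ₁' = θ₁ from Subtype.ext (funext fun n => (h1 n).trans (congrFun hg n))]
          exact hθ₁
        · intro h
          have h1 := h θ (Blocks.mem_blockOf_self θ)
            ⟨_, Clifford.isIrrCharacter_conjFun g θ.2⟩ (fun _ => rfl)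
          exact congrArg Subtype.val (hsingle _ h1)
      obtain ⟨ξ, hξ, hξχ⟩ := BlockUnion.Stab.exists_ind_eq hb hstab hNT
        (Blocks.mem_blockOf_self θ) hθ
      have hcard : Nat.card T ≤ n := by
        have h1 : Nat.card T < Nat.card G := by
          refine lt_of_le_of_ne (Subgroup.card_le_card_group T) fun h => hT ?_
          exact Subgroup.eq_top_of_card_eq T h
        omega
      set B' := Cfsg.blockOf M (ξ : T → ℂ) with hB'def
      have hB' : IsPBlock M B' := Blocks.isPBlock_blockOf ξ
      have hind := BlockUnion.Stab.isInducedBlock_ind hb hstab hNT hB' (Blocks.mem_blockOf_self ξ) hξ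
      rw [hξχ, ← Blocks.eq_blockOf_of_mem hB hχ] at hind
      obtain ⟨D, hD⟩ := Blocks.exists_isDefectGroup (p := p) hB'
      have hDmap := BlockUnion.Stab.isDefectGroup_map hM hb hstab hNT hind
        (Blocks.mem_blockOf_self ξ) hξ hD
      obtain ⟨x, hx⟩ := Blocks.isDefectGroup_conjugate hM hB hDmap hP
      have heq := (BlockUnion.Stab.height_defect_eq (p := p) hb hstab hNT hind
        (Blocks.mem_blockOf_self ξ) hξ).2 ξ (Blocks.mem_blockOf_self ξ) χ
        (congrArg Subtype.val hξχ.symm)
      rw [heq, hx]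
      refine (ih (M := M) hM hcard (PSolvable.isPSolvable_subgroup hs T) B' hB' D hD ξ
        (Blocks.mem_blockOf_self ξ)).trans (le_of_eq ?_)
      rw [index_center_congr ((D.equivMapOfInjective T.subtype T.subtype_injective).trans
        ((D.map T.subtype).equivMapOfInjective (MulAut.conj x).toMonoidHom (MulAut.conj x).injective))]

end Cfsg.Agent.Lib.OsimaConverse
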