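import Cfsg.Agent.Lib.OsimaConverse.Split
import Cfsg.Agent.Lib.OsimaConverse.Twist
import Cfsg.Agent.Lib.InvariantCore.Extension
import Mathlib

/-!
# The invariant case: all or none
-/

set_option autoImplicit false
set_option linter.unusedSectionVars false

namespace Cfsg.Agent.Lib.OsimaConverse

open Cfsg
open Cfsg.Agent.Lib
open Cfsg.Agent.Lib.Clifford (conjFun resFun resTo)
open scoped ComplexConjugate Classical

universe u

variable {G : Type u} [Group G] [Fintype G] {p : ℕ} [Fact p.Prime]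

theorem wsum_one_ne_zero {U : Set (IrrCharacter G)} (h : U.Nonempty) : wsum U (1 : G) ≠ 0 := by
  choose d hd0 hd using fun ψ : IrrCharacter G => Chars.isIrrCharacter_exists_degree_pos ψ.2
  have h1 : wsum U (1 : G) = ((∑ ψ, if ψ ∈ U then d ψ * d ψ else 0 : ℕ) : ℂ) := by
    rw [wsum]
    push_cast
    exact Finset.sum_congr rfl fun ψ _ => by split_ifs <;> simp [hd]
  rw [h1, Nat.cast_ne_zero]
  obtain ⟨ψ, hψ⟩ := h
  intro h0
  have := Finset.sum_eq_zero_iff.1 h0 ψ (Finset.mem_univ ψ)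
  rw [if_pos hψ] at this
  exact (Nat.mul_pos (hd0 ψ) (hd0 ψ)).ne' this

theorem wsum_univ (g : G) :
    wsum (Set.univ : Set (IrrCharacter G)) g = if g = 1 then (Nat.card G : ℂ) else 0 := by
  simp only [wsum, Set.mem_univ, if_true]
  have h := Chars.column_orthogonality_eq g (1 : G)
  rw [show Subgroup.centralizer ({1} : Set G) = ⊤ from eq_top_iff.2 fun c _ =>
      Subgroup.mem_centralizer_singleton_iff.2 (by rw [one_mul, mul_one]), Subgroup.card_top,
    Chars.classIndicator] at h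
  refine (Finset.sum_congr rfl fun χ _ => ?_).trans (h.trans ?_)
  · rw [← Chars.irr_inv χ 1, inv_one, mul_comm]
  · simp only [isConj_one_right, mul_ite, mul_one, mul_zero]

/-- In the invariant case the vanishing of a weighted sum forces all characters over the
extension to a normal section into the set. -/
theorem over_ext_subset (hs : IsPSolvable p G) (N : Subgroup G) [N.Normal] [Fintype N]
    (hN : ¬ p ∣ Nat.card N)
    {M0 V0 A0 : Subgroup (G ⧸ N)} [M0.Normal] [V0.Normal] (hV0 : IsPGroup p V0)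
    (hMA : M0 ≤ A0) (hMV : M0 ≤ V0) (hAV : A0 ⊓ V0 ≤ M0)
    (hprod : ∀ g : G ⧸ N, ∃ v ∈ V0, ∃ a ∈ A0, g = v * a)
    (hcomm : ∀ v ∈ V0, ∀ w ∈ V0, v * w * v⁻¹ * w⁻¹ ∈ M0)
    (hfaith : ∀ a ∈ A0, (∀ v ∈ V0, a * v * a⁻¹ * v⁻¹ ∈ M0) → a ∈ pCore p (G ⧸ N))
    (θ : IrrCharacter N) (hθ : ∀ g : G, conjFun g (θ : N → ℂ) = (θ : N → ℂ))
    [Fintype (V0.comap (QuotientGroup.mk' N))]
    (η : IrrCharacter (V0.comap (QuotientGroup.mk' N)))
    (hηN : ∀ n : N, (η : V0.comap (QuotientGroup.mk' N) → ℂ) ⟨(n : G), by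
      show ((n : G) : G ⧸ N) ∈ V0
      rw [(QuotientGroup.eq_one_iff (n : G)).2 n.2]; exact one_mem _⟩ = (θ : N → ℂ) n)
    (hη : ∀ g : G, conjFun g (η : V0.comap (QuotientGroup.mk' N) → ℂ) =
      (η : V0.comap (QuotientGroup.mk' N) → ℂ))
    (U : Set (IrrCharacter G))
    (hover : ∀ χ ∈ U, classInner (resFun N (χ : G → ℂ)) (θ : N → ℂ) ≠ 0)
    (hU : ∀ x : G, p ∣ orderOf x → wsum U x = 0) (hne : U.Nonempty) (χ : IrrCharacter G)
    (hχ : classInner (resFun (V0.comap (QuotientGroup.mk' N)) (χ : G → ℂ))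
      (η : V0.comap (QuotientGroup.mk' N) → ℂ) ≠ 0) : χ ∈ U := by
  have hpp : p.Prime := Fact.out
  let π := QuotientGroup.mk' N
  let V : Subgroup G := V0.comap π
  haveI : V.Normal := Subgroup.Normal.comap ‹V0.Normal› π
  have hNV : N ≤ V := fun n hn => by
    show π n ∈ V0
    rw [show π n = 1 from (QuotientGroup.eq_one_iff n).2 hn]; exact one_mem _
  have hVp : ∀ v ∈ V, v ∉ N → p ∣ orderOf v := by
    intro v hv hvN
    obtain ⟨k, hk⟩ := IsPGroup.iff_orderOf.1 hV0 ⟨π v, hv⟩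
    replace hk : orderOf (π v) = p ^ k :=
      (Subgroup.orderOf_coe (⟨π v, hv⟩ : V0)).trans hk
    have h1 : π v ≠ 1 := fun h => hvN ((QuotientGroup.eq_one_iff v).1 h)
    refine dvd_trans ?_ (orderOf_map_dvd π v)
    rw [hk]
    refine dvd_pow_self p ?_
    rintro rfl
    exact h1 (orderOf_eq_one_iff.1 (by simpa using hk))
  set W := {ψ : IrrCharacter G | ψ ∈ U ∧ classInner (resFun V (ψ : G → ℂ)) (η : V → ℂ) ≠ 0} with hWdef
  -- nonempty
  have hWne : W.Nonempty := by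
    by_contra h
    rw [Set.not_nonempty_iff_eq_empty] at h
    have h1 := sum_coset_wsum V η hη U 1
    rw [← hWdef, h, show wsum (∅ : Set (IrrCharacter G)) (1 : G) = 0 by simp [wsum], mul_zero] at h1
    simp only [one_mul] at h1
    have h2 : ∑ n : N, conj ((θ : N → ℂ) n) * wsum U (n : G) = 0 := by
      rw [← h1]
      refine Finset.sum_bij_ne_zero (fun (n : N) _ _ => (⟨(n : G), hNV n.2⟩ : V))
        (fun _ _ _ => Finset.mem_univ _) (fun a _ _ b _ _ e => ?_) (fun v _ hv => ?_) fun n _ _ => ?_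
      · exact Subtype.ext (congrArg (fun z : V => (z : G)) e)
      · have hvN : (v : G) ∈ N := by
          by_contra hn
          exact hv (by rw [hU _ (hVp v v.2 hn), mul_zero])
        refine ⟨⟨(v : G), hvN⟩, Finset.mem_univ _, ?_, rfl⟩
        rwa [← hηN]
      · rw [← hηN]
    have h3 := sum_coset_wsum N θ hθ U 1
    simp only [one_mul] at h3
    rw [h2, show {χ : IrrCharacter G | χ ∈ U ∧
        classInner (resFun N (χ : G → ℂ)) (θ : N → ℂ) ≠ 0} = U from
      Set.ext fun χ => ⟨fun h => h.1, fun h => ⟨h, hover χ h⟩⟩] at h3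
    exact mul_ne_zero (div_ne_zero Chars.natCard_ne_zero (Chars.irr_apply_one_ne_zero θ))
      (wsum_one_ne_zero hne) h3.symm
  refine (mem_of_wsum_supported V η hη W (fun ψ hψ => hψ.2) hWne ?_ χ hχ).1
  intro g hg
  have hg0 : π g ∉ V0 := hg
  -- singular image
  by_cases hsing : ∀ v : V, p ∣ orderOf (g * (v : G))
  · have h1 := sum_coset_wsum V η hη U g
    rw [← hWdef, Finset.sum_eq_zero (fun v _ => by rw [hU _ (hsing v), mul_zero])] at h1
    exact (mul_eq_zero.1 h1.symm).resolve_left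
      (div_ne_zero Chars.natCard_ne_zero (Chars.irr_apply_one_ne_zero η))
  push Not at hsing
  obtain ⟨v0, hv0⟩ := hsing
  obtain ⟨w, hw, a, ha, hga⟩ := hprod (π g)
  -- an element of the section moved by a
  obtain ⟨v1, hv1, hv1m⟩ : ∃ v ∈ V0, a * v * a⁻¹ * v⁻¹ ∉ M0 := by
    by_contra h
    push Not at h
    obtain ⟨k, hk⟩ := IsPGroup.iff_orderOf.1 (PSolvable.pCore_isPGroup (p := p) (G := G ⧸ N))
      ⟨a, hfaith a ha h⟩
    rw [Subgroup.orderOf_mk] at hk
    let τ := QuotientGroup.mk' V0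
    have h1 : τ (π (g * (v0 : G))) = τ a := by
      rw [map_mul π, map_mul τ, show τ (π (v0 : G)) = 1 from (QuotientGroup.eq_one_iff _).2 v0.2,
        mul_one, hga, map_mul τ, show τ w = 1 from (QuotientGroup.eq_one_iff _).2 hw, one_mul]
    have h2 : orderOf (τ a) ∣ orderOf (g * (v0 : G)) := by
      rw [← h1]
      exact (orderOf_map_dvd τ _).trans (orderOf_map_dvd π _)
    have h3 : orderOf (τ a) ∣ p ^ k := hk ▸ orderOf_map_dvd τ a
    have h4 : orderOf (τ a) = 1 := by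
      obtain ⟨j, -, hj⟩ := (Nat.dvd_prime_pow hpp).1 h3
      rcases Nat.eq_zero_or_pos j with rfl | hjp
      · simpa using hj
      · exact absurd ((dvd_pow_self p hjp.ne').trans (hj ▸ h2)) hv0
    have h5 : a ∈ V0 := (QuotientGroup.eq_one_iff a).1 (orderOf_eq_one_iff.1 h4)
    exact hg0 (hga ▸ mul_mem hw h5)
  -- a linear character separating it
  let M' : Subgroup V0 := M0.subgroupOf V0
  haveI : M'.Normal := Subgroup.normal_subgroupOf
  have hab : ∀ x y : V0 ⧸ M', x * y = y * x := by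
    intro x y
    obtain ⟨x, rfl⟩ := QuotientGroup.mk_surjective x
    obtain ⟨y, rfl⟩ := QuotientGroup.mk_surjective y
    rw [← QuotientGroup.mk_mul, ← QuotientGroup.mk_mul, eq_comm, QuotientGroup.eq]
    show (((y * x)⁻¹ * (x * y) : V0) : G ⧸ N) ∈ M0
    have := hcomm (x : G ⧸ N)⁻¹ (inv_mem x.2) (y : G ⧸ N)⁻¹ (inv_mem y.2)
    simpa [mul_assoc] using this
  letI : CommGroup (V0 ⧸ M') := { (inferInstance : Group (V0 ⧸ M')) with mul_comm := hab }
  have hc : a * v1 * a⁻¹ * v1⁻¹ ∈ V0 := mul_mem (‹V0.Normal›.conj_mem v1 hv1 a) (inv_mem hv1)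
  obtain ⟨lam, hlam⟩ := CommGroup.exists_apply_ne_one_of_hasEnoughRootsOfUnity (V0 ⧸ M') ℂ
    (a := ((⟨_, hc⟩ : V0) : V0 ⧸ M')) (fun h => hv1m ((QuotientGroup.eq_one_iff (⟨_, hc⟩ : V0)).1 h))
  let l0 : V0 →* ℂˣ := lam.comp (QuotientGroup.mk' M')
  have hlM : ∀ v : V0, (v : G ⧸ N) ∈ M0 → l0 v = 1 := fun v hv => by
    show lam ((v : V0) : V0 ⧸ M') = 1
    rw [(QuotientGroup.eq_one_iff v).2 hv, map_one]
  have hcl : ∀ v x : V0, l0 (v * x * v⁻¹) = l0 x := fun v x => by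
    rw [map_mul, map_mul, map_inv, mul_right_comm, mul_inv_cancel, one_mul]
  -- the stabilizer of the linear character
  let cj : (G ⧸ N) → V0 → V0 := fun x v => ⟨x * v * x⁻¹, ‹V0.Normal›.conj_mem _ v.2 x⟩
  let T0 : Subgroup (G ⧸ N) :=
    { carrier := {x | ∀ v : V0, l0 (cj x v) = l0 v}
      one_mem' := fun v => congrArg l0 (Subtype.ext (by simp [cj]))
      mul_mem' := fun {x y} hx hy v => by
        have e : cj (x * y) v = cj x (cj y v) := Subtype.ext (by simp [cj, mul_assoc])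
        rw [e, hx, hy]
      inv_mem' := fun {x} hx v => by
        have e : cj x (cj x⁻¹ v) = v := Subtype.ext (by simp [cj, mul_assoc])
        have h := hx (cj x⁻¹ v)
        rw [e] at h
        exact h.symm }
  have hVT0 : V0 ≤ T0 := fun x hx v => hcl ⟨x, hx⟩ v
  let T : Subgroup G := T0.comap π
  haveI : Fintype T := Fintype.ofFinite _
  have hVT : V ≤ T := fun x hx => hVT0 hx
  have hgT : g ∉ T := by
    intro h
    have h1 : a ∈ T0 := by
      have := mul_mem (inv_mem (hVT0 hw)) (show π g ∈ T0 from h)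
      rwa [hga, inv_mul_cancel_left] at this
    have h2 := h1 ⟨v1, hv1⟩
    refine hlam ?_
    show l0 ⟨_, hc⟩ = 1
    rw [show (⟨_, hc⟩ : V0) = cj a ⟨v1, hv1⟩ * ⟨v1, hv1⟩⁻¹ from Subtype.ext rfl, map_mul, map_inv, h2,
      mul_inv_cancel]
  -- extend to the stabilizer
  have hdec : ∀ t : T, ∃ v : V0, ∃ b ∈ A0, π (t : G) = (v : G ⧸ N) * b := fun t => by
    obtain ⟨v, hv, b, hb, e⟩ := hprod (π (t : G))
    exact ⟨⟨v, hv⟩, b, hb, e⟩
  choose vf bf hbf hvb using hdec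
  have hwd : ∀ (t : T) (v : V0) (b : G ⧸ N), b ∈ A0 → π (t : G) = (v : G ⧸ N) * b →
      l0 (vf t) = l0 v := by
    intro t v b hb e
    have h1 : (v : G ⧸ N)⁻¹ * (vf t : G ⧸ N) = b * (bf t)⁻¹ := by
      calc (v : G ⧸ N)⁻¹ * (vf t : G ⧸ N)
          = (v : G ⧸ N)⁻¹ * ((vf t : G ⧸ N) * bf t) * (bf t)⁻¹ := by group
        _ = b * (bf t)⁻¹ := by rw [← hvb, e]; group
    have h2 : ((v⁻¹ * vf t : V0) : G ⧸ N) ∈ M0 :=
      hAV ⟨by
        show (v : G ⧸ N)⁻¹ * (vf t : G ⧸ N) ∈ A0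
        rw [h1]; exact mul_mem hb (inv_mem (hbf t)), (v⁻¹ * vf t).2⟩
    have h3 := hlM _ h2
    rw [map_mul, map_inv, inv_mul_eq_one] at h3
    exact h3.symm
  have hmul : ∀ s t : T, l0 (vf (s * t)) = l0 (vf s) * l0 (vf t) := by
    intro s t
    have hbT : bf s ∈ T0 := by
      have := mul_mem (inv_mem (hVT0 (vf s).2)) (show π (s : G) ∈ T0 from s.2)
      rwa [hvb, inv_mul_cancel_left] at this
    rw [hwd (s * t) (vf s * cj (bf s) (vf t)) (bf s * bf t) (mul_mem (hbf s) (hbf t)) (by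
      rw [Subgroup.coe_mul, map_mul, hvb s, hvb t]
      simp [cj, mul_assoc]), map_mul, hbT]
  let l : T →* ℂˣ := MonoidHom.mk' (fun t => l0 (vf t)) hmul
  have hlV : ∀ v : V, l (Subgroup.inclusion hVT v) = l0 ⟨π (v : G), v.2⟩ := fun v =>
    hwd _ ⟨π (v : G), v.2⟩ 1 (one_mem _) (by rw [mul_one]; rfl)
  have hreg : ∀ t : T, ¬ p ∣ orderOf t → l t = 1 := by
    intro t ht
    obtain ⟨k, hk⟩ := hV0 (vf t)
    have h1 : orderOf (l t) ∣ p ^ k := orderOf_dvd_of_pow_eq_one (by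
      show l0 (vf t) ^ p ^ k = 1
      rw [← map_pow, hk, map_one])
    have h2 : orderOf (l t) ∣ orderOf t := orderOf_map_dvd l t
    exact orderOf_eq_one_iff.1 (Nat.eq_one_of_dvd_coprimes
      ((hpp.coprime_iff_not_dvd.2 ht).pow_left k) h1 h2)
  refine wsum_eq_zero_of_twist hpp V η hη U hU T hVT l hreg ?_ hgT
  intro x
  constructor
  · intro hx
    funext v
    have h1 := congrFun (hη x) v
    simp only [conjFun] at h1 ⊢
    rw [h1]
    congr 2
    rw [hlV, hlV]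
    exact hx ⟨π (v : G), v.2⟩
  · intro hx v
    obtain ⟨v, hv⟩ := v
    obtain ⟨y, rfl⟩ := QuotientGroup.mk_surjective v
    -- a representative where η is not zero
    obtain ⟨n, hn⟩ : ∃ n : N, (η : V → ℂ) (⟨y, hv⟩ * ⟨(n : G), hNV n.2⟩) ≠ 0 := by
      by_contra! h0
      have hirr : IsIrrCharacter (N.subgroupOf V)
          (fun k : N.subgroupOf V => (η : V → ℂ) k) := by
        have e : (fun k : N.subgroupOf V => (η : V → ℂ) k) =
            fun k => (θ : N → ℂ) (Subgroup.subgroupOfEquivOfLe hNV k) :=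
          funext fun k => hηN (Subgroup.subgroupOfEquivOfLe hNV k)
        rw [e]
        exact Chars.isIrrCharacter_comp_mulEquiv _ θ.2
      haveI : Fintype (N.subgroupOf V) := Fintype.ofFinite _
      have h1 := InvariantCore.sum_restrict_mul η (N.subgroupOf V) hirr ⟨y, hv⟩ ⟨y, hv⟩⁻¹
      rw [Finset.sum_eq_zero (fun k _ => by
        have hz : (η : V → ℂ) (⟨y, hv⟩ * (k : V)) = 0 := h0 ⟨((k : V) : G), k.2⟩
        rw [hz, zero_mul]), mul_inv_cancel] at h1
      exact mul_ne_zero (div_ne_zero Chars.natCard_ne_zero (Chars.irr_apply_one_ne_zero η))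
        (Chars.irr_apply_one_ne_zero η) h1.symm
    have h1 := congrFun hx (⟨y, hv⟩ * ⟨(n : G), hNV n.2⟩)
    have h2 := congrFun (hη x) (⟨y, hv⟩ * ⟨(n : G), hNV n.2⟩)
    simp only [conjFun] at h1 h2
    rw [h2] at h1
    have h3 := Units.ext (mul_left_cancel₀ hn h1)
    rw [hlV, hlV] at h3
    have hπn : π ((n : G)) = 1 := (QuotientGroup.eq_one_iff _).2 n.2
    have h4 : l0 (cj (π x) ⟨π y, hv⟩) = l0 ⟨π y, hv⟩ := by
      convert h3 using 2 <;> apply Subtype.ext <;>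
        simp [cj, hπn, map_mul, map_inv]
    exact h4

end Cfsg.Agent.Lib.OsimaConverse
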