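import Cfsg.Agent.Lib.OsimaConverse.Invariant
import Cfsg.Agent.Lib.BlockUnion.Stabilizer
import Cfsg.Agent.Lib.PSolvable.Core
import Mathlib

/-!
# A degree-weighted sum vanishing off the regular elements is a union of blocks
-/

set_option autoImplicit false
set_option linter.unusedSectionVars false

namespace Cfsg.Agent.Lib.OsimaConverse

open Cfsg
open Cfsg.Agent.Lib
open Cfsg.Agent.Lib.Clifford (conjFun resFun resTo)
open scoped ComplexConjugate Classical

universe u

/-- A p-singular element stays singular in a coset of a normal p'-subgroup. -/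
theorem dvd_orderOf_mul {G : Type u} [Group G] [Finite G] {p : ℕ} [Fact p.Prime] (N : Subgroup G)
    [N.Normal] (hN : ¬ p ∣ Nat.card N) {x : G} (hx : p ∣ orderOf x) (n : N) :
    p ∣ orderOf (x * (n : G)) := by
  have hpp : p.Prime := Fact.out
  let π := QuotientGroup.mk' N
  have h1 : p ∣ orderOf (π x) := by
    by_contra h
    have h2 : x ^ orderOf (π x) ∈ N := by
      rw [← QuotientGroup.eq_one_iff]
      show π (x ^ orderOf (π x)) = 1
      rw [map_pow, pow_orderOf_eq_one]
    have h3 : x ^ (orderOf (π x) * Nat.card N) = 1 := by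
      rw [pow_mul]
      exact congrArg Subtype.val (pow_card_eq_one' (G := N) (x := ⟨_, h2⟩))
    rcases hpp.dvd_mul.1 (hx.trans (orderOf_dvd_of_pow_eq_one h3)) with h4 | h4
    · exact h h4
    · exact hN h4
  have h2 : π (x * (n : G)) = π x := by
    rw [map_mul, show π (n : G) = 1 from (QuotientGroup.eq_one_iff _).2 n.2, mul_one]
  exact h1.trans (h2 ▸ orderOf_map_dvd π (x * (n : G)))

theorem all_of_invariant {G : Type u} [Group G] [Fintype G] {p : ℕ} [Fact p.Prime]
    (hs : IsPSolvable p G) (N : Subgroup G) [N.Normal] [Fintype N] (hN : ¬ p ∣ Nat.card N)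
    (hN0 : pPrimeCore p (G ⧸ N) = ⊥) (θ : IrrCharacter N)
    (hθ : ∀ g : G, conjFun g (θ : N → ℂ) = (θ : N → ℂ)) (U : Set (IrrCharacter G))
    (hover : ∀ χ ∈ U, classInner (resFun N (χ : G → ℂ)) (θ : N → ℂ) ≠ 0)
    (hU : ∀ x : G, p ∣ orderOf x → wsum U x = 0) (hne : U.Nonempty) (χ : IrrCharacter G)
    (hχ : classInner (resFun N (χ : G → ℂ)) (θ : N → ℂ) ≠ 0) : χ ∈ U := by
  obtain ⟨M0, V0, A0, hM0, hV0n, hV0, hMA, hMV, hAV, hprod, hcomm, hfaith⟩ :=
    exists_split (PSolvable.isPSolvable_quotient hs N) hN0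
  let V : Subgroup G := V0.comap (QuotientGroup.mk' N)
  haveI : Fintype V := Fintype.ofFinite _
  haveI : V.Normal := hV0n.comap _
  have hNV : N ≤ V := fun n hn => by
    show ((n : G) : G ⧸ N) ∈ V0
    rw [(QuotientGroup.eq_one_iff n).2 hn]; exact one_mem _
  have hidx : ∃ a, N.relIndex V = p ^ a := by
    obtain ⟨a, ha⟩ := hV0.exists_card_eq
    refine ⟨a, ?_⟩
    have h1 := PSolvable.card_mul_relIndex hNV
    rw [PSolvable.card_comap_mk' N V0, ha] at h1
    exact Nat.eq_of_mul_eq_mul_left Nat.card_pos h1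
  obtain ⟨η, hη1, hη2⟩ := InvariantCore.exists_canonical_extension N V hNV hN hidx θ
    (fun g n => congrFun (hθ g) n)
  have hη : ∀ g : G, conjFun g (η : V → ℂ) = (η : V → ℂ) := fun g =>
    funext fun v => hη2 g (fun s hs => ‹V.Normal›.conj_mem s hs g) v
  have key := fun (U' : Set (IrrCharacter G))
      (hover' : ∀ χ ∈ U', classInner (resFun N (χ : G → ℂ)) (θ : N → ℂ) ≠ 0)
      (hU' : ∀ x : G, p ∣ orderOf x → wsum U' x = 0) (hne' : U'.Nonempty) (ψ : IrrCharacter G)
      (hψ : classInner (resFun V (ψ : G → ℂ)) (η : V → ℂ) ≠ 0) =>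
    over_ext_subset hs N hN hV0 hMA hMV hAV hprod hcomm hfaith θ hθ η hη1 hη U' hover' hU' hne' ψ hψ
  by_contra hnot
  let Uc : Set (IrrCharacter G) :=
    {ψ | classInner (resFun N (ψ : G → ℂ)) (θ : N → ℂ) ≠ 0 ∧ ψ ∉ U}
  have hUc : ∀ x : G, p ∣ orderOf x → wsum Uc x = 0 := by
    intro x hx
    have h1 := sum_coset_wsum N θ hθ Set.univ x
    rw [Finset.sum_eq_zero (fun k _ => by
      rw [wsum_univ, if_neg, mul_zero]
      intro h
      have := dvd_orderOf_mul N hN hx k
      rw [h, orderOf_one] at this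
      exact (Fact.out : p.Prime).not_dvd_one this)] at h1
    have h2 := (mul_eq_zero.1 h1.symm).resolve_left
      (div_ne_zero Chars.natCard_ne_zero (Chars.irr_apply_one_ne_zero θ))
    have h3 : wsum {ψ : IrrCharacter G | ψ ∈ (Set.univ : Set (IrrCharacter G)) ∧
        classInner (resFun N (ψ : G → ℂ)) (θ : N → ℂ) ≠ 0} x = wsum U x + wsum Uc x := by
      rw [wsum, wsum, wsum, ← Finset.sum_add_distrib]
      refine Finset.sum_congr rfl fun ψ _ => ?_
      by_cases hψ : classInner (resFun N (ψ : G → ℂ)) (θ : N → ℂ) ≠ 0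
      · by_cases hψU : ψ ∈ U
        · rw [if_pos ⟨Set.mem_univ ψ, hψ⟩, if_pos hψU, if_neg (fun h : ψ ∈ Uc => h.2 hψU), add_zero]
        · rw [if_pos ⟨Set.mem_univ ψ, hψ⟩, if_neg hψU, if_pos (show ψ ∈ Uc from ⟨hψ, hψU⟩), zero_add]
      · rw [if_neg (fun h : ψ ∈ {ψ : IrrCharacter G | ψ ∈ (Set.univ : Set (IrrCharacter G)) ∧
            classInner (resFun N (ψ : G → ℂ)) (θ : N → ℂ) ≠ 0} => hψ h.2),
          if_neg (fun h => hψ (hover ψ h)), if_neg (fun h : ψ ∈ Uc => hψ h.1), add_zero]
    rw [h3, hU x hx, zero_add] at h2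
    exact h2
  obtain ⟨ψ, hψ⟩ : ∃ ψ : IrrCharacter G, classInner (resFun V (ψ : G → ℂ)) (η : V → ℂ) ≠ 0 := by
    by_contra! h0
    have h1 := congrFun (Chars.isCharacter_eq_sum_classInner
      (Chars.isCharacter_indFun V (Chars.irr_isCharacter η))) 1
    have h2 : ∀ ψ : IrrCharacter G, classInner (indFun V (η : V → ℂ)) (ψ : G → ℂ) = 0 := by
      intro ψ
      rw [Chars.classInner_indFun_left V _ _ (Chars.irr_isClassFunction ψ), ← Chars.conj_classInner]
      exact (congrArg conj (h0 ψ)).trans (map_zero _)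
    simp only [h2, zero_smul, Finset.sum_const_zero, Pi.zero_apply] at h1
    rw [Chars.indFun_one_eq] at h1
    exact mul_ne_zero (Nat.cast_ne_zero.2 V.index_ne_zero_of_finite)
      (Chars.irr_apply_one_ne_zero η) h1
  exact (key Uc (fun χ h => h.1) hUc ⟨χ, hχ, hnot⟩ ψ hψ).2 (key U hover hU hne ψ hψ)

theorem mem_of_sameBlock_aux (n : ℕ) : ∀ {G : Type u} [Group G] [Fintype G] {p : ℕ} [Fact p.Prime]
    {M : Ideal AlgInt} [M.IsPrime], IsPModular p M → Nat.card G ≤ n → IsPSolvable p G →
    ∀ U : Set (IrrCharacter G), (∀ x : G, p ∣ orderOf x → wsum U x = 0) →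
    ∀ χ ∈ U, ∀ ψ : IrrCharacter G, SameBlock M (χ : G → ℂ) (ψ : G → ℂ) → ψ ∈ U := by
  induction n with
  | zero =>
    intro G _ _ p _ M _ _ hn
    have := Nat.card_pos (α := G)
    omega
  | succ n ih =>
    intro G _ _ p _ M _ hM hn hs U hU χ hχ ψ hψ
    let N : Subgroup G := pPrimeCore p G
    have := PSolvable.pPrimeCore_characteristic (p := p) (G := G)
    haveI hNn : N.Normal := inferInstanceAs (pPrimeCore p G).Normal
    haveI : Fintype N := Fintype.ofFinite _
    have hN : ¬ p ∣ Nat.card N := PSolvable.pPrimeCore_not_dvd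
    obtain ⟨θ, hθ⟩ := Blocks.Covering.exists_constituent (N := N) χ
    have hψθ := Blocks.Covering.constituent_of_sameBlock hM hN hψ hθ
    let T : Subgroup G :=
      { carrier := {g | conjFun g (θ : N → ℂ) = (θ : N → ℂ)}
        one_mem' := Clifford.conjFun_one _
        mul_mem' := fun {a b} ha hb => by
          show conjFun (a * b) (θ : N → ℂ) = _
          rw [Clifford.conjFun_mul, show conjFun a (θ : N → ℂ) = _ from ha]
          exact hb
        inv_mem' := fun {a} ha => by
          show conjFun a⁻¹ (θ : N → ℂ) = _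
          conv_lhs => rw [← show conjFun a (θ : N → ℂ) = (θ : N → ℂ) from ha]
          rw [← Clifford.conjFun_mul, mul_inv_cancel, Clifford.conjFun_one] }
    by_cases hT : T = ⊤
    · -- invariant
      have hinv : ∀ g : G, conjFun g (θ : N → ℂ) = (θ : N → ℂ) := fun g => by
        show g ∈ T
        rw [hT]; exact Subgroup.mem_top g
      refine (all_of_invariant hs N hN (PSolvable.pPrimeCore_quotient_eq_bot) θ hinv
        {χ | χ ∈ U ∧ classInner (resFun N (χ : G → ℂ)) (θ : N → ℂ) ≠ 0} (fun χ h => h.2) ?_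
        ⟨χ, hχ, hθ⟩ ψ hψθ).1
      intro x hx
      have h1 := sum_coset_wsum N θ hinv U x
      rw [Finset.sum_eq_zero (fun k _ => by rw [hU _ (dvd_orderOf_mul N hN hx k), mul_zero])] at h1
      exact (mul_eq_zero.1 h1.symm).resolve_left
        (div_ne_zero Chars.natCard_ne_zero (Chars.irr_apply_one_ne_zero θ))
    · haveI : Fintype T := Fintype.ofFinite _
      have hNT : N ≤ T := fun x hx => funext fun n => by
        show (θ : N → ℂ) _ = _
        exact Chars.irr_isClassFunction θ n ⟨x, hx⟩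
      have hsingle : ∀ θ' ∈ Cfsg.blockOf M (θ : N → ℂ), θ' = θ := fun θ' h =>
        Blocks.Covering.eq_of_sameBlock_of_not_dvd hM hN h
      have hb : IsPBlock M (Cfsg.blockOf M (θ : N → ℂ)) := Blocks.isPBlock_blockOf θ
      have hstab : BlockUnion.Stab.IsStab T (Cfsg.blockOf M (θ : N → ℂ)) := by
        intro g
        constructor
        · intro hg θ₁ hθ₁ θ₁' h1
          obtain rfl := hsingle θ₁ hθ₁
          rw [show θ₁' = θ₁ from Subtype.ext (funext fun n => (h1 n).trans (congrFun hg n))]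
          exact hθ₁
        · intro h
          have h1 := h θ (Blocks.mem_blockOf_self θ)
            ⟨_, Clifford.isIrrCharacter_conjFun g θ.2⟩ (fun _ => rfl)
          exact congrArg Subtype.val (hsingle _ h1)
      obtain ⟨ξ, hξ, hξχ⟩ := BlockUnion.Stab.exists_ind_eq hb hstab hNT
        (Blocks.mem_blockOf_self θ) hθ
      obtain ⟨ξ', hξ', hξψ⟩ := BlockUnion.Stab.exists_ind_eq hb hstab hNT
        (Blocks.mem_blockOf_self θ) hψθ
      let U' : Set (IrrCharacter T) := {ζ |
        ∃ h : BlockUnion.Stab.Covers hNT (Cfsg.blockOf M (θ : N → ℂ)) (ζ : T → ℂ),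
          BlockUnion.Stab.ind hb hstab hNT h ∈ U}
      have hcard : Nat.card T ≤ n := by
        have h1 : Nat.card T < Nat.card G := by
          refine lt_of_le_of_ne (Subgroup.card_le_card_group T) fun h => hT ?_
          exact Subgroup.eq_top_of_card_eq T h
        omega
      suffices hU' : ∀ t : T, p ∣ orderOf t → wsum U' t = 0 by
        obtain ⟨h', hmem⟩ := ih (M := M) hM hcard (PSolvable.isPSolvable_subgroup hs T) U' hU' ξ
          ⟨hξ, by rw [hξχ]; exact hχ⟩ ξ'
          (BlockUnion.Stab.sameBlock_of_sameBlock_ind hb hstab hNT hξ hξ' (by rw [hξχ, hξψ]; exact hψ))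
        rw [← hξψ]
        exact hmem
      -- vanishing on the stabilizer
      intro t ht
      let K : Subgroup T := N.subgroupOf T
      haveI : K.Normal := Subgroup.normal_subgroupOf
      haveI : Fintype K := Fintype.ofFinite _
      let e : K ≃* N := Subgroup.subgroupOfEquivOfLe hNT
      let θ' : IrrCharacter K := ⟨fun k => (θ : N → ℂ) (e k), Chars.isIrrCharacter_comp_mulEquiv e θ.2⟩
      have hθ' : ∀ x : T, conjFun x (θ' : K → ℂ) = (θ' : K → ℂ) := fun x => funext fun k =>
        congrFun (x.2 : conjFun (x : G) (θ : N → ℂ) = _) (e k)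
      have hmult : ∀ ζ : IrrCharacter T, classInner (resFun K (ζ : T → ℂ)) (θ' : K → ℂ) ≠ 0 ↔
          BlockUnion.Stab.Covers hNT (Cfsg.blockOf M (θ : N → ℂ)) (ζ : T → ℂ) := by
        intro ζ
        have h1 : classInner (resFun K (ζ : T → ℂ)) (θ' : K → ℂ) =
            BlockUnion.Stab.mult hNT (ζ : T → ℂ) θ := by
          simp only [BlockUnion.Stab.mult, classInner]
          rw [Nat.card_congr e.toEquiv]
          congr 1
          exact Fintype.sum_equiv e.toEquiv _ _ fun k => rfl
        rw [h1]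
        constructor
        · exact fun h => ⟨θ, Blocks.mem_blockOf_self θ, h⟩
        · rintro ⟨θ₁, hθ₁, h⟩
          rwa [hsingle θ₁ hθ₁] at h
      have hzero : ∑ k : K, conj ((θ' : K → ℂ) k) * wsum U ((t : G) * ((k : T) : G)) = 0 :=
        Finset.sum_eq_zero fun k _ => by
          have hx : p ∣ orderOf (t : G) := by rwa [Subgroup.orderOf_coe]
          rw [show (t : G) * ((k : T) : G) = (t : G) * (e k : G) from rfl,
            hU _ (dvd_orderOf_mul N hN hx (e k)), mul_zero]
      set m : IrrCharacter G → IrrCharacter T → ℂ := fun χ ζ =>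
        classInner (resFun T (χ : G → ℂ)) (ζ : T → ℂ) with hm
      have hdec : ∀ (χ : IrrCharacter G) (s : T), (χ : G → ℂ) (s : G) =
          ∑ ζ : IrrCharacter T, m χ ζ * (ζ : T → ℂ) s := fun χ s => by
        have := congrFun (Chars.isCharacter_eq_sum_classInner (φ := resFun T (χ : G → ℂ))
          (Chars.isCharacter_restrict T (Chars.irr_isCharacter χ))) s
        simp only [Finset.sum_apply, Pi.smul_apply, smul_eq_mul] at this
        exact this
      have hcoef : ∀ ζ : IrrCharacter T, classInner (resFun K (ζ : T → ℂ)) (θ' : K → ℂ) ≠ 0 →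
          ∑ χ : IrrCharacter G, (if χ ∈ U then (χ : G → ℂ) 1 * m χ ζ else 0) =
            (T.index : ℂ) * if ζ ∈ U' then (ζ : T → ℂ) 1 else 0 := by
        intro ζ hζ
        have hcov := (hmult ζ).1 hζ
        set χ₀ := BlockUnion.Stab.ind hb hstab hNT hcov with hχ₀
        have hval : ∀ χ : IrrCharacter G, m χ ζ = if χ = χ₀ then 1 else 0 := by
          intro χ
          have h1 := Chars.classInner_indFun_right T (ζ : T → ℂ) (χ : G → ℂ)
            (Chars.irr_isClassFunction χ)
          rw [show indFun T (ζ : T → ℂ) = (χ₀ : G → ℂ) from rfl, Chars.classInner_irr] at h1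
          exact h1.symm
        rw [Finset.sum_eq_single χ₀ (fun χ _ hne => by simp [hval, hne])
          (fun h => absurd (Finset.mem_univ _) h), hval, if_pos rfl, mul_one,
          show (χ₀ : G → ℂ) 1 = (T.index : ℂ) * (ζ : T → ℂ) 1 from Chars.indFun_one_eq T _]
        by_cases hU0 : χ₀ ∈ U
        · rw [if_pos hU0, if_pos (show ζ ∈ U' from ⟨hcov, hU0⟩)]
        · rw [if_neg hU0, if_neg (show ζ ∉ U' from fun h => hU0 h.2), mul_zero]
      have hmain : ∑ k : K, conj ((θ' : K → ℂ) k) * wsum U ((t : G) * ((k : T) : G)) =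
          (Nat.card K : ℂ) / (θ' : K → ℂ) 1 * ((T.index : ℂ) * wsum U' t) := by
        have h1 : ∀ s : T, wsum U (s : G) = ∑ ζ : IrrCharacter T,
            (∑ χ : IrrCharacter G, if χ ∈ U then (χ : G → ℂ) 1 * m χ ζ else 0) * (ζ : T → ℂ) s := by
          intro s
          simp only [wsum, Finset.sum_mul]
          rw [Finset.sum_comm]
          refine Finset.sum_congr rfl fun χ _ => ?_
          split_ifs
          · rw [hdec χ s, Finset.mul_sum]
            exact Finset.sum_congr rfl fun ζ _ => by ring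
          · simp
        simp only [← Subgroup.coe_mul, h1, Finset.mul_sum]
        rw [Finset.sum_comm, wsum, Finset.mul_sum, Finset.mul_sum]
        refine Finset.sum_congr rfl fun ζ _ => ?_
        rw [Finset.sum_congr rfl (g := fun k : K =>
          (∑ χ : IrrCharacter G, if χ ∈ U then (χ : G → ℂ) 1 * m χ ζ else 0) *
            (conj ((θ' : K → ℂ) k) * (ζ : T → ℂ) (t * (k : T)))) (fun k _ => by ring),
          ← Finset.mul_sum, sum_coset_irr K θ' hθ' ζ t]
        by_cases hζ : classInner (resFun K (ζ : T → ℂ)) (θ' : K → ℂ) ≠ 0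
        · rw [if_pos hζ, hcoef ζ hζ]
          split_ifs <;> ring
        · rw [if_neg hζ, mul_zero, if_neg (show ζ ∉ U' from fun h => hζ ((hmult ζ).2 h.1)), mul_zero,
            mul_zero]
      rw [hzero] at hmain
      exact (mul_eq_zero.1 ((mul_eq_zero.1 hmain.symm).resolve_left
        (div_ne_zero Chars.natCard_ne_zero (Chars.irr_apply_one_ne_zero θ')))).resolve_left
        (Nat.cast_ne_zero.2 T.index_ne_zero_of_finite)

end Cfsg.Agent.Lib.OsimaConverse
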