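import Cfsg.Agent.Lib.PSolvable.HallHigman
import Cfsg.Agent.Lib.PSolvable.PSolv
import Cfsg.Agent.Lib.Coprime.Quotient
import Cfsg.Agent.Lib.Coprime.Basic
import Cfsg.Agent.Lib.SZ.Conjugacy
import Cfsg.Agent.Lib.PGroup.Frattini
import Mathlib

/-!
# A split abelian normal section faithful for a p-solvable group
-/

set_option autoImplicit false

namespace Cfsg.Agent.Lib.OsimaConverse

open Cfsg
open Cfsg.Agent.Lib
open Subgroup
open scoped Pointwise commutatorElement

variable {H : Type*} [Group H] [Finite H] {p : ℕ} [Fact p.Prime]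

/-- A p-solvable group with trivial p'-core has an abelian section `V/M` by a
normal p-subgroup, with a complement `A/M` in which only p-elements centralise it. -/
theorem exists_split (hs : IsPSolvable p H) (h0 : pPrimeCore p H = ⊥) :
    ∃ M V A : Subgroup H, M.Normal ∧ V.Normal ∧ IsPGroup p V ∧ M ≤ A ∧ M ≤ V ∧ A ⊓ V ≤ M ∧
      (∀ g : H, ∃ v ∈ V, ∃ a ∈ A, g = v * a) ∧
      (∀ v ∈ V, ∀ w ∈ V, v * w * v⁻¹ * w⁻¹ ∈ M) ∧
      ∀ a ∈ A, (∀ v ∈ V, a * v * a⁻¹ * v⁻¹ ∈ M) → a ∈ pCore p H := by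
  classical
  have hpp : p.Prime := Fact.out
  let Q : Subgroup H := pCore p H
  have hQc : Q.Characteristic := PSolvable.pCore_characteristic
  haveI hQn : Q.Normal := inferInstance
  have hQp : IsPGroup p Q := PSolvable.pCore_isPGroup
  let Φ : Subgroup H := (frattini Q).map Q.subtype
  haveI hΦn : Φ.Normal := by
    refine normalizer_eq_top_iff.1 (top_le_iff.1 ?_)
    rw [← normalizer_eq_top_iff.2 hQn]
    exact Coprime.normalizer_le_normalizer_map_of_characteristic (frattini Q)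
  have hΦQ : Φ ≤ Q := map_subtype_le _
  have hcomm : ∀ x ∈ Q, ∀ y ∈ Q, x * y * x⁻¹ * y⁻¹ ∈ Φ := by
    intro x hx y hy
    refine ⟨⁅(⟨x, hx⟩ : Q), ⟨y, hy⟩⁆, PFrattini.commutator_le_frattini hQp
      (commutator_mem_commutator (mem_top _) (mem_top _)), ?_⟩
    simp [commutatorElement_def]
  let π := QuotientGroup.mk' Q
  let L : Subgroup H := (pPrimeCore p (H ⧸ Q)).comap π
  haveI hPn : (pPrimeCore p (H ⧸ Q)).Normal := by
    have := PSolvable.pPrimeCore_characteristic (p := p) (G := H ⧸ Q)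
    infer_instance
  haveI hLn : L.Normal := hPn.comap π
  have hQL : Q ≤ L := fun x hx => by
    show π x ∈ pPrimeCore p (H ⧸ Q)
    rw [show π x = 1 from (QuotientGroup.eq_one_iff x).2 hx]
    exact one_mem _
  let QL : Subgroup L := Q.subgroupOf L
  haveI hQLn : QL.Normal := normal_subgroupOf
  have hQLcard : Nat.card QL = Nat.card Q := Nat.card_congr (subgroupOfEquivOfLe hQL).toEquiv
  have hQLidx : QL.index = Nat.card (pPrimeCore p (H ⧸ Q)) := by
    have h1 := QL.card_mul_index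
    rw [hQLcard, PSolvable.card_comap_mk' Q] at h1
    exact Nat.eq_of_mul_eq_mul_left Nat.card_pos h1
  have hcopP : (Nat.card (pPrimeCore p (H ⧸ Q))).Coprime p := PSolvable.pPrimeCore_coprime
  obtain ⟨k, hk⟩ := hQp.exists_card_eq
  have hcop : (Nat.card QL).Coprime QL.index := by
    rw [hQLcard, hQLidx, hk]
    exact (hcopP.pow_right k).symm
  obtain ⟨K0, hK0⟩ := exists_right_complement'_of_coprime hcop
  let K : Subgroup H := K0.map L.subtype
  have hKL : K ≤ L := map_subtype_le _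
  have hK0card : Nat.card K0 = QL.index := SZ.card_eq_index_of_isComplement' hK0
  have hKcard : Nat.card K = Nat.card (pPrimeCore p (H ⧸ Q)) := by
    rw [← hQLidx, ← hK0card]
    exact card_map_of_injective L.subtype_injective
  have hKQ : ∀ S : Subgroup H, S ≤ K → ∀ T : Subgroup H, T ≤ Q →
      (Nat.card S).Coprime (Nat.card T) := by
    intro S hS T hT
    refine Nat.Coprime.coprime_dvd_left (card_dvd_of_le hS)
      (Nat.Coprime.coprime_dvd_right (card_dvd_of_le hT) ?_)
    rw [hKcard, hk]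
    exact hcopP.pow_right k
  have hKQbot : K ⊓ Q = ⊥ := by
    refine (eq_bot_iff_card _).2 (Nat.eq_one_of_dvd_coprimes (hKQ K le_rfl Q le_rfl) ?_ ?_)
    · exact card_dvd_of_le inf_le_left
    · exact card_dvd_of_le inf_le_right
  have hsolv : ∀ T : Subgroup H, T ≤ Q → Group.IsSolvable T := by
    intro T hT
    haveI := (hQp.to_le hT).isNilpotent
    infer_instance
  -- the Frattini argument
  have hfrat : ∀ g : H, ∃ q ∈ Q, ∃ n ∈ normalizer (K : Set H), g = q * n := by
    intro g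
    have hgK : ∀ y : H, y ∈ K → g * y * g⁻¹ ∈ L := fun y hy => hLn.conj_mem y (hKL hy) g
    let Kg : Subgroup L := ((K.map (MulAut.conj g).toMonoidHom)).subgroupOf L
    have hle : K.map (MulAut.conj g).toMonoidHom ≤ L := by
      rintro _ ⟨y, hy, rfl⟩
      exact hgK y hy
    have hKgcard : Nat.card Kg = QL.index := by
      rw [Nat.card_congr (subgroupOfEquivOfLe hle).toEquiv,
        card_map_of_injective (MulAut.conj g).injective, hKcard, hQLidx]
    haveI : Group.IsSolvable QL := by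
      haveI := hsolv Q le_rfl
      exact Group.isSolvable_of_surjective (f := (subgroupOfEquivOfLe hQL).symm.toMonoidHom)
        (subgroupOfEquivOfLe hQL).symm.surjective
    obtain ⟨a, ha, hconj⟩ := SZ.exists_mem_conj_of_card_eq_index QL K0 Kg hcop (Or.inl inferInstance)
      hK0card hKgcard
    refine ⟨(a : H), ha, (a : H)⁻¹ * g, ?_, by group⟩
    have hiff : ∀ y : H, y ∈ K → ((a : H)⁻¹ * g) * y * ((a : H)⁻¹ * g)⁻¹ ∈ K := by
      intro y hy
      have h1 : (⟨g * y * g⁻¹, hgK y hy⟩ : L) ∈ Kg := ⟨y, hy, rfl⟩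
      rw [← hconj] at h1
      obtain ⟨z, hz, hze⟩ := h1
      refine ⟨z, hz, ?_⟩
      have h2 : (a : H) * (z : H) * (a : H)⁻¹ = g * y * g⁻¹ := congrArg Subtype.val hze
      show (z : H) = _
      calc (z : H) = (a : H)⁻¹ * ((a : H) * (z : H) * (a : H)⁻¹) * a := by group
        _ = _ := by rw [h2]; group
    exact PSolvable.mem_normalizer_of_conj_mem hiff
  have hKnQ : K ≤ normalizer (Q : Set H) := by
    rw [normalizer_eq_top_iff.2 hQn]; exact le_top
  have hdecomp : ∀ x ∈ Q, ∃ d ∈ ⁅Q, K⁆, ∃ c ∈ Q ⊓ centralizer (K : Set H), x = d * c := fun x hx =>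
    Coprime.mem_commutator_mul_centralizer hKnQ
      (hKQ K le_rfl _ (Coprime.commutator_le_of_le_normalizer hKnQ))
      (Or.inr (hsolv _ (Coprime.commutator_le_of_le_normalizer hKnQ))) hx
  let V : Subgroup H := ⁅Q, K⁆ ⊔ Φ
  let A : Subgroup H := normalizer (K : Set H) ⊔ Φ
  have hVQ : V ≤ Q := sup_le (Coprime.commutator_le_of_le_normalizer hKnQ) hΦQ
  have hNV : normalizer (K : Set H) ≤ normalizer ((⁅Q, K⁆ : Subgroup H) : Set H) :=
    Coprime.le_normalizer_commutator (by rw [normalizer_eq_top_iff.2 hQn]; exact le_top) le_rfl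
  have hVn : V.Normal := by
    refine ⟨fun v hv g => ?_⟩
    obtain ⟨q, hq, n, hn, rfl⟩ := hfrat g
    have h1 : n * v * n⁻¹ ∈ V := by
      obtain ⟨d, hd, f, hf, rfl⟩ := mem_sup_of_normal_right.1 hv
      rw [show n * (d * f) * n⁻¹ = (n * d * n⁻¹) * (n * f * n⁻¹) by group]
      exact mul_mem (mem_sup_left ((mem_normalizer_iff.1 (hNV hn) d).1 hd))
        (mem_sup_right (hΦn.conj_mem f hf n))
    rw [show q * n * v * (q * n)⁻¹ =
      (q * (n * v * n⁻¹) * q⁻¹ * (n * v * n⁻¹)⁻¹) * (n * v * n⁻¹) by group]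
    exact mul_mem (mem_sup_right (hcomm q hq _ (hVQ h1))) h1
  let ρ := QuotientGroup.mk' Φ
  have hρ : ∀ x y : H, x * y * x⁻¹ * y⁻¹ ∈ Φ ↔ ρ x * ρ y = ρ y * ρ x := by
    intro x y
    rw [← map_mul, ← map_mul, ← QuotientGroup.eq_one_iff]
    show ρ (x * y * x⁻¹ * y⁻¹) = 1 ↔ _
    rw [show x * y * x⁻¹ * y⁻¹ = x * y * (y * x)⁻¹ by group, map_mul, map_inv, mul_inv_eq_one]
  refine ⟨Φ, V, A, hΦn, hVn, hQp.to_le hVQ, le_sup_right, le_sup_right, ?_, ?_, ?_, ?_⟩
  · -- trivial intersection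
    rintro x ⟨hxA, hxV⟩
    obtain ⟨n, hn, f, hf, rfl⟩ := mem_sup_of_normal_right.1 hxA
    refine mul_mem ?_ hf
    have hnV : n ∈ V := by
      have := mul_mem hxV (mem_sup_right (inv_mem hf) : f⁻¹ ∈ V)
      simpa using this
    have hnC : n ∈ centralizer (K : Set H) := by
      rw [mem_centralizer_iff]
      intro y hy
      have h1 : n * y * n⁻¹ * y⁻¹ ∈ K := mul_mem ((mem_normalizer_iff.1 hn y).1 hy) (inv_mem hy)
      have h2 : n * y * n⁻¹ * y⁻¹ ∈ Q := by
        rw [show n * y * n⁻¹ * y⁻¹ = n * (y * n⁻¹ * y⁻¹) by group]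
        exact mul_mem (hVQ hnV) (hQn.conj_mem _ (inv_mem (hVQ hnV)) y)
      have h3 : n * y * n⁻¹ * y⁻¹ ∈ (⊥ : Subgroup H) := hKQbot ▸ ⟨h1, h2⟩
      rw [mem_bot] at h3
      have h4 : n * y = y * n := by
        calc n * y = n * y * n⁻¹ * y⁻¹ * (y * n) := by group
          _ = y * n := by rw [h3, one_mul]
      exact h4.symm
    haveI : IsMulCommutative (Q.map ρ) := ⟨⟨fun x y => by
      obtain ⟨_, a, ha, rfl⟩ := x
      obtain ⟨_, b, hb, rfl⟩ := y
      exact Subtype.ext ((hρ a b).1 (hcomm a ha b hb))⟩⟩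
    have hnorm : K.map ρ ≤ normalizer ((Q.map ρ : Subgroup _) : Set (H ⧸ Φ)) := by
      rw [normalizer_eq_top_iff.2 (hQn.map ρ (QuotientGroup.mk'_surjective Φ))]; exact le_top
    have hbot := Coprime.inf_centralizer_inf_commutator_eq_bot hnorm
      (((hKQ K le_rfl Q le_rfl).coprime_dvd_left (card_map_dvd _ _)).coprime_dvd_right
        (card_map_dvd _ _))
    have hmem : ρ n ∈ (⊥ : Subgroup (H ⧸ Φ)) := by
      rw [← hbot]
      refine ⟨⟨mem_map_of_mem ρ (hVQ hnV), mem_centralizer_iff.2 ?_⟩, ?_⟩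
      · rintro _ ⟨y, hy, rfl⟩
        rw [← map_mul, ← map_mul, mem_centralizer_iff.1 hnC y hy]
      · obtain ⟨d, hd, f', hf', hdf⟩ := mem_sup_of_normal_right.1 hnV
        rw [← map_commutator, ← hdf, map_mul, show ρ f' = 1 from (QuotientGroup.eq_one_iff f').2 hf',
          mul_one]
        exact mem_map_of_mem ρ hd
    exact (QuotientGroup.eq_one_iff n).1 (mem_bot.1 hmem)
  · -- a product
    intro g
    obtain ⟨q, hq, n, hn, rfl⟩ := hfrat g
    obtain ⟨d, hd, c, hc, rfl⟩ := hdecomp q hq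
    exact ⟨d, mem_sup_left hd, c * n,
      mem_sup_left (mul_mem (centralizer_le_normalizer _ hc.2) hn), by group⟩
  · exact fun v hv w hw => hcomm v (hVQ hv) w (hVQ hw)
  · -- faithfulness
    let C : Subgroup H := (centralizer ((V.map ρ : Subgroup (H ⧸ Φ)) : Set (H ⧸ Φ))).comap ρ
    have hC : ∀ x : H, x ∈ C ↔ ∀ v ∈ V, x * v * x⁻¹ * v⁻¹ ∈ Φ := by
      intro x
      rw [mem_comap, mem_centralizer_iff]
      constructor
      · exact fun h v hv => (hρ x v).2 (h _ (mem_map_of_mem ρ hv)).symm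
      · rintro h _ ⟨v, hv, rfl⟩
        exact ((hρ x v).1 (h v hv)).symm
    haveI : (V.map ρ).Normal := hVn.map ρ (QuotientGroup.mk'_surjective Φ)
    haveI hCn : C.Normal := Subgroup.Normal.comap inferInstance ρ
    -- inside L
    have hCL : ∀ x ∈ C, x ∈ L → x ∈ Q := by
      intro x hxC hxL
      obtain ⟨⟨q, y⟩, hqy, -⟩ := hK0.existsUnique ⟨x, hxL⟩
      have hqy' : ((q : L) : H) * ((y : L) : H) = x := congrArg Subtype.val hqy
      have hqQ : ((q : L) : H) ∈ Q := q.2
      have hyK : ((y : L) : H) ∈ K := mem_map_of_mem _ y.2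
      have hyC : ((y : L) : H) ∈ C := by
        rw [show ((y : L) : H) = ((q : L) : H)⁻¹ * x by rw [← hqy']; group]
        exact mul_mem (inv_mem ((hC _).2 fun v hv => hcomm _ hqQ v (hVQ hv))) hxC
      have hcent : K ⊓ C ≤ centralizer (Q : Set H) := by
        refine Coprime.le_centralizer_of_frattini (inf_le_left.trans hKnQ) ?_ ?_
        · rw [← card_map_of_injective Q.subtype_injective]
          exact hKQ _ inf_le_left Φ hΦQ
        · intro z hz w hw
          obtain ⟨d, hd, c, hc, rfl⟩ := hdecomp w hw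
          have hzc : z * c * z⁻¹ = c := by
            rw [mem_centralizer_iff.1 hc.2 z hz.1, mul_inv_cancel_right]
          rw [show z * (d * c) * z⁻¹ * (d * c)⁻¹ = z * d * z⁻¹ * (z * c * z⁻¹) * c⁻¹ * d⁻¹ by group,
            hzc, mul_inv_cancel_right]
          exact (hC z).1 hz.2 d (mem_sup_left hd)
      have hyQ : ((y : L) : H) ∈ Q :=
        PSolvable.centralizer_pCore_le_of_isPSolvable hs h0 (hcent ⟨hyK, hyC⟩)
      rw [← hqy']
      exact mul_mem hqQ hyQ
    intro a _ ha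
    have haC : a ∈ C := (hC a).2 ha
    by_contra haQ
    haveI : (C.map π).Normal := hCn.map π (QuotientGroup.mk'_surjective Q)
    have hne : C.map π ≠ ⊥ := fun h => haQ ((QuotientGroup.eq_one_iff a).1
      (mem_bot.1 (h ▸ mem_map_of_mem π haC)))
    obtain ⟨M, hMn, hMC, hMne, hM⟩ := PSolvable.exists_normal_le_of_isPSolvable (C.map π) hne
      (PSolvable.isPSolvable_subgroup (PSolvable.isPSolvable_quotient hs Q) _)
    rcases hM with hM | hM
    · haveI := hMn
      have h1 := PSolvable.le_pCore hM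
      rw [PSolvable.pCore_quotient_eq_bot] at h1
      exact hMne (le_bot_iff.1 h1)
    · haveI := hMn
      have h1 := PSolvable.le_pPrimeCore hM
      refine hMne (le_bot_iff.1 fun m hm => ?_)
      obtain ⟨c, hc, rfl⟩ := hMC hm
      exact mem_bot.2 ((QuotientGroup.eq_one_iff c).2 (hCL c hc (h1 hm)))

end Cfsg.Agent.Lib.OsimaConverse
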